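import Cfsg.Agent.TO.X.Iface
import Cfsg.Agent.S2100
import Cfsg.Agent.S2103
import Cfsg.Agent.S2105
import Cfsg.Agent.S2106
import Cfsg.Agent.S2107
import Cfsg.Agent.S2108
import Cfsg.Agent.S2109
import Cfsg.Agent.S2110
import Cfsg.Agent.S2114
import Cfsg.Agent.Prune
set_option linter.all false
prune_inst 0x7f00000000000000000000000000000000000000000000000000000000000000000000000000000000000000000000000000000000000000000000000000000000000000000000000000000000000000003fffffffffffffffffffffffffffbeffbdffffffff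
open scoped Cfsg.Agent.FastGrp

/-!
# S4817, exceptional groups: the centres of the covers (helper54)
-/

set_option autoImplicit false

namespace Cfsg.Agent.TO.X

open Cfsg Cfsg.Lie

variable {S T : Type} [Group S] [Group T]

theorem ZD.congr {c : ℕ} (h : ZD c T) (e : S ≃* T) : ZD c S := fun G _ _ σ h1 h2 h3 h4 =>
  h G (e.toMonoidHom.comp σ) h1 (e.surjective.comp h2) (by
    rw [← h3]
    ext x
    simp [MonoidHom.mem_ker]) h4

theorem ZD.mono {c c' : ℕ} (h : ZD c S) (hc : c ∣ c') : ZD c' S := fun G _ _ σ h1 h2 h3 h4 =>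
  (h G σ h1 h2 h3 h4).trans hc

/-- with `ZD 1` every cover is an isomorphism -/
theorem ZD.inj (h : ZD 1 S) {p : ℕ} {G : Type} [Group G] [Finite G] {σ : G →* S} {M : Ideal AlgInt}
    {b : Set (IrrCharacter G)} {D : Subgroup G} (H : Hyp p M b D σ) : Function.Bijective σ :=
  ⟨(MonoidHom.ker_eq_bot_iff σ).1 (H.ker.trans (Subgroup.card_eq_one.1 (Nat.dvd_one.1 (h.dvd H)))), H.surj⟩

theorem zd_of_mult {A : Type} [CommGroup A] (h : HasSchurMultiplier S A) {c : ℕ} (hc : ∀ a : A, a ^ c = 1) :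
    ZD c S := fun G _ _ σ h1 h2 h3 h4 => by
  obtain ⟨π, hπ⟩ := h.2 G σ ⟨h2, h3.le, h1 ▸ le_top⟩
  rw [← h3] at h4 ⊢
  rw [← IsCyclic.exponent_eq_card]
  refine Monoid.exponent_dvd_of_forall_pow_eq_one fun x => ?_
  obtain ⟨a, rfl⟩ := hπ x
  rw [← map_pow, hc, map_one]

theorem zd_of_cyc {c : ℕ} (h : HasCyclicSchurMultiplier S c) : ZD c S :=
  zd_of_mult h fun a => by
    rw [← ofAdd_toAdd a, ← ofAdd_nsmul, nsmul_eq_mul, CharP.cast_eq_zero, zero_mul, ofAdd_zero]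

variable {F : Type} [Field F] [Fintype F] {q : ℕ}

theorem zd_G2 (h : 5 ≤ Fintype.card F) : ZD 1 ↥(chevG2.group F) := zd_of_cyc (S2100.result h)

theorem zd_F4 (h : Fintype.card F ≠ 2) : ZD 1 ↥(chevF4.group F) :=
  zd_of_cyc (S2103.result (by have := Fintype.one_lt_card (α := F); omega))

theorem zd_E6 (h : Fintype.card F = q) : ZD (Nat.gcd 3 (q - 1)) ↥(chevE6.group F) := zd_of_cyc (S2105.result h)

theorem zd_E7 (h : Fintype.card F = q) : ZD (Nat.gcd 2 (q - 1)) ↥(chevE7.group F) := zd_of_cyc (S2106.result h)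

theorem zd_E8 : ZD 1 ↥(chevE8.group F) := zd_of_cyc S2107.result

theorem zd_2E6 (hq : IsPrimePow q) (h : Fintype.card F = q ^ 2) (h2 : q ≠ 2) :
    ZD (Nat.gcd 3 (q + 1)) ↥(twistedE6 F q) := zd_of_cyc (S2108.result hq h h2)

theorem zd_2E62 (h : Fintype.card F = 2 ^ 2) : ZD 6 ↥(twistedE6 F 2) :=
  zd_of_mult (S2109.result h) (by decide)

theorem zd_3D4 (hq : IsPrimePow q) (h : Fintype.card F = q ^ 3) : ZD 1 ↥(twistedD4 F q) :=
  zd_of_cyc (S2110.result hq h)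

theorem zd_2F4 {m : ℕ} (hm : 1 ≤ m) (h : Fintype.card F = 2 ^ (2 * m + 1)) : ZD 1 ↥(twistedF4 F (2 ^ m)) :=
  zd_of_cyc (S2114.result hm h)

theorem zd_iso2F4 (h : Iso2F4 S) : ZD 1 S :=
  let ⟨_, _, _, _, hm, hK, ⟨e⟩⟩ := h
  (zd_2F4 hm hK).congr e

/-- all `²E₆(q)` -/
theorem zd_2E6' (hq : IsPrimePow q) (h : Fintype.card F = q ^ 2) : ZD 6 ↥(twistedE6 F q) := by
  by_cases h2 : q = 2
  · subst h2
    exact zd_2E62 h
  · exact (zd_2E6 hq h h2).mono ((Nat.gcd_dvd_left _ _).trans (by norm_num))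

end Cfsg.Agent.TO.X
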